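import Mathlib

set_option autoImplicit false
universe u
open TensorProduct

namespace Groth.Agent.Lib.Helper5.GMod

section Core
variable {R : Type u} [CommRing R] {A : Type u} [CommRing A] [Bialgebra R A]
  {E : Type u} [AddCommGroup E] [Module R E] (δ : E →ₗ[R] E ⊗[R] A)
variable {B : Type u} [CommRing B] [Algebra R B]

/-- `x ↦ Σ f(a_i) ⊗ x_i` where `δ x = Σ x_i ⊗ a_i`. -/
noncomputable def theta (f : A →ₐ[R] B) : E →ₗ[R] B ⊗[R] E :=
  (TensorProduct.comm R E B).toLinearMap ∘ₗ (LinearMap.lTensor E f.toLinearMap) ∘ₗ δ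

theorem theta_apply (f : A →ₐ[R] B) (x : E) :
    theta δ f x = TensorProduct.comm R E B (LinearMap.lTensor E f.toLinearMap (δ x)) := rfl

/-- the `B`-linear extension of `theta`. -/
noncomputable def rho (f : A →ₐ[R] B) : B ⊗[R] E →ₗ[B] B ⊗[R] E :=
  LinearMap.liftBaseChange B (theta δ f)

theorem rho_tmul (f : A →ₐ[R] B) (b : B) (x : E) : rho δ f (b ⊗ₜ[R] x) = b • theta δ f x := rfl

theorem rho_one_tmul (f : A →ₐ[R] B) (x : E) : rho δ f ((1 : B) ⊗ₜ[R] x) = theta δ f x := by
  rw [rho_tmul, one_smul]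

/-- a `B`-linear endomorphism is determined by its values on `1 ⊗ x`. -/
theorem ext_one_tmul (P Q : B ⊗[R] E →ₗ[B] B ⊗[R] E)
    (h : ∀ x : E, P ((1 : B) ⊗ₜ[R] x) = Q ((1 : B) ⊗ₜ[R] x)) : P = Q := by
  apply LinearMap.ext
  intro y
  induction y using TensorProduct.induction_on with
  | zero => simp
  | tmul b x =>
    have : b ⊗ₜ[R] x = b • ((1 : B) ⊗ₜ[R] x) := by
      rw [TensorProduct.smul_tmul', smul_eq_mul, mul_one]
    rw [this, map_smul, map_smul, h]
  | add y y' hy hy' => rw [map_add, map_add, hy, hy']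

/-- `a ⊗ a' ↦ f a * f' a'`. -/
noncomputable def mu (f f' : A →ₐ[R] B) : A ⊗[R] A →ₗ[R] B :=
  (Algebra.TensorProduct.productMap f f').toLinearMap

theorem mu_tmul (f f' : A →ₐ[R] B) (a a' : A) : mu f f' (a ⊗ₜ[R] a') = f a * f' a' := by
  simp [mu]

/-- `x ⊗ (a ⊗ a') ↦ f a * f' a' ⊗ x`. -/
noncomputable def Psi (f f' : A →ₐ[R] B) : E ⊗[R] (A ⊗[R] A) →ₗ[R] B ⊗[R] E :=
  (TensorProduct.comm R E B).toLinearMap ∘ₗ LinearMap.lTensor E (mu f f')

theorem Psi_tmul (f f' : A →ₐ[R] B) (x : E) (a a' : A) :
    Psi (E := E) f f' (x ⊗ₜ[R] (a ⊗ₜ[R] a')) = (f a * f' a') ⊗ₜ[R] x := by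
  simp [Psi, mu_tmul]

theorem Psi_assoc_tmul (f f' : A →ₐ[R] B) (w : E ⊗[R] A) (a' : A) :
    Psi (E := E) f f' (TensorProduct.assoc R E A A (w ⊗ₜ[R] a'))
      = f' a' • TensorProduct.comm R E B (LinearMap.lTensor E f.toLinearMap w) := by
  induction w using TensorProduct.induction_on with
  | zero => simp
  | tmul y a =>
    rw [TensorProduct.assoc_tmul, Psi_tmul, LinearMap.lTensor_tmul, TensorProduct.comm_tmul,
      TensorProduct.smul_tmul', smul_eq_mul, mul_comm]
    rfl
  | add w w' hw hw' =>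
    rw [TensorProduct.add_tmul, map_add, map_add, hw, hw', map_add, map_add, smul_add]

/-- the key computation. -/
theorem key (f f' : A →ₐ[R] B) (P : B ⊗[R] E →ₗ[B] B ⊗[R] E)
    (hP : ∀ x : E, P ((1 : B) ⊗ₜ[R] x) = theta δ f x) (z : E ⊗[R] A) :
    P (TensorProduct.comm R E B (LinearMap.lTensor E f'.toLinearMap z))
      = Psi f f' (TensorProduct.assoc R E A A (LinearMap.rTensor A δ z)) := by
  induction z using TensorProduct.induction_on with
  | zero => simp
  | tmul y a' =>
    rw [LinearMap.lTensor_tmul, TensorProduct.comm_tmul, LinearMap.rTensor_tmul, Psi_assoc_tmul]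
    have : (f'.toLinearMap a') ⊗ₜ[R] y = f' a' • ((1 : B) ⊗ₜ[R] y) := by
      rw [TensorProduct.smul_tmul', smul_eq_mul, mul_one]
      rfl
    rw [this, map_smul, hP, theta_apply]
  | add z z' hz hz' => simp only [map_add, hz, hz']

/-- convolution product on the level of `theta`. -/
theorem theta_mul (f f' : A →ₐ[R] B) (x : E) :
    theta δ (WithConv.toConv f * WithConv.toConv f').ofConv x
      = Psi f f' (LinearMap.lTensor E (CoalgebraStruct.comul (R := R) (A := A)) (δ x)) := by
  rw [theta_apply]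
  have h1 : ((WithConv.toConv f * WithConv.toConv f').ofConv).toLinearMap
      = mu f f' ∘ₗ (CoalgebraStruct.comul (R := R) (A := A)) := by
    apply LinearMap.ext
    intro a
    rw [AlgHom.convMul_def]
    change (Algebra.TensorProduct.lmul' R) ((Algebra.TensorProduct.map f f')
      (CoalgebraStruct.comul (R := R) (A := A) a)) = mu f f' (CoalgebraStruct.comul (R := R) (A := A) a)
    generalize CoalgebraStruct.comul (R := R) (A := A) a = t
    induction t using TensorProduct.induction_on with
    | zero => simp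
    | tmul a₁ a₂ => simp [mu_tmul]
    | add t t' ht ht' => rw [map_add, map_add, ht, ht', map_add]
  rw [h1, LinearMap.lTensor_comp]
  rfl

section Coassoc
variable (hco : (TensorProduct.assoc R E A A).toLinearMap ∘ₗ δ.rTensor A ∘ₗ δ =
    (CoalgebraStruct.comul (R := R) (A := A)).lTensor E ∘ₗ δ)
include hco

theorem rho_mul (f f' : A →ₐ[R] B) :
    rho δ (WithConv.toConv f * WithConv.toConv f').ofConv = rho δ f ∘ₗ rho δ f' := by
  apply ext_one_tmul
  intro x
  rw [rho_one_tmul, theta_mul, LinearMap.comp_apply, rho_one_tmul, theta_apply δ f']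
  rw [key δ f f' (rho δ f) (rho_one_tmul δ f) (δ x)]
  have := congrArg (fun l => l x) hco
  simp only [LinearMap.comp_apply, LinearEquiv.coe_coe] at this
  rw [this]

end Coassoc

section Counit
variable (hcu : (CoalgebraStruct.counit (R := R) (A := A)).lTensor E ∘ₗ δ
    = (TensorProduct.mk R E R).flip 1)
include hcu

theorem theta_one (x : E) :
    theta δ ((1 : WithConv (A →ₐ[R] B)).ofConv) x = (1 : B) ⊗ₜ[R] x := by
  rw [theta_apply]
  have h1 : ((1 : WithConv (A →ₐ[R] B)).ofConv).toLinearMap
      = Algebra.linearMap R B ∘ₗ (CoalgebraStruct.counit (R := R) (A := A)) := by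
    apply LinearMap.ext
    intro a
    rfl
  rw [h1, LinearMap.lTensor_comp, LinearMap.comp_apply]
  have := congrArg (fun l => l x) hcu
  simp only [LinearMap.comp_apply] at this
  rw [this]
  simp

theorem rho_one : rho δ ((1 : WithConv (A →ₐ[R] B)).ofConv) = LinearMap.id := by
  apply ext_one_tmul
  intro x
  rw [rho_one_tmul, theta_one δ hcu]
  rfl

end Counit

/-- compatibility with change of test algebra. -/
theorem comm_lTensor_rTensor {B' : Type u} [CommRing B'] [Algebra R B'] (f : A →ₐ[R] B)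
    (φ : B →ₐ[R] B') (w : E ⊗[R] A) :
    LinearMap.rTensor E φ.toLinearMap
        (TensorProduct.comm R E B (LinearMap.lTensor E f.toLinearMap w))
      = TensorProduct.comm R E B' (LinearMap.lTensor E (φ.comp f).toLinearMap w) := by
  induction w using TensorProduct.induction_on with
  | zero => simp
  | tmul y a => simp
  | add w w' hw hw' => simp only [map_add, hw, hw']

theorem theta_comp {B' : Type u} [CommRing B'] [Algebra R B'] (f : A →ₐ[R] B) (φ : B →ₐ[R] B')
    (x : E) :
    LinearMap.rTensor E φ.toLinearMap (theta δ f x) = theta δ (φ.comp f) x := by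
  rw [theta_apply, theta_apply, comm_lTensor_rTensor]

theorem rho_comp {B' : Type u} [CommRing B'] [Algebra R B'] (f : A →ₐ[R] B) (φ : B →ₐ[R] B')
    (y : B ⊗[R] E) :
    LinearMap.rTensor E φ.toLinearMap (rho δ f y)
      = rho δ (φ.comp f) (LinearMap.rTensor E φ.toLinearMap y) := by
  induction y using TensorProduct.induction_on with
  | zero => simp
  | tmul b x =>
    rw [rho_tmul, LinearMap.rTensor_tmul, rho_tmul, ← theta_comp]
    generalize theta δ f x = t
    induction t using TensorProduct.induction_on with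
    | zero => simp
    | tmul b' x' =>
      rw [TensorProduct.smul_tmul', LinearMap.rTensor_tmul, LinearMap.rTensor_tmul,
        TensorProduct.smul_tmul']
      simp
    | add t t' ht ht' => rw [smul_add, map_add, ht, ht', map_add, smul_add]
  | add y y' hy hy' => rw [map_add, map_add, hy, hy', map_add, map_add]

end Core

end Groth.Agent.Lib.Helper5.GMod
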