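import Groth.Agent.Lib.Helper5.GMod.Points

set_option autoImplicit false
universe u
open CategoryTheory MonoidalCategory CartesianMonoidalCategory MonObj GrpObj AlgebraicGeometry VecGrp TensorProduct

namespace Groth.Agent.Lib.Helper5.GMod

variable {R : Type u} [CommRing R] {A : Type u} [CommRing A] [HopfAlgebra R A]
  {E : Type u} [AddCommGroup E] [Module R E]

theorem ptMap_comp {B B' : Type u} [CommRing B] [Algebra R B] [CommRing B'] [Algebra R B']
    (φ : B →ₐ[R] B') (g : pt R B ⟶ GG R A) : ptMap φ ≫ g = ptOf (φ.comp (fOf g)) := by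
  rw [← fOf_ptMap, ptOf_fOf]

theorem rTensor_comm {B B' : Type u} [CommRing B] [Algebra R B] [CommRing B'] [Algebra R B']
    (φ : B →ₐ[R] B') (w : E ⊗[R] B) :
    LinearMap.rTensor E φ.toLinearMap (TensorProduct.comm R E B w)
      = TensorProduct.comm R E B' (LinearMap.lTensor E φ.toLinearMap w) := by
  induction w using TensorProduct.induction_on with
  | zero => simp
  | tmul y a => simp
  | add w w' hw hw' => simp only [map_add, hw, hw']

section FromComod
variable (δ : E →ₗ[R] E ⊗[R] A)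
  (hco : (TensorProduct.assoc R E A A).toLinearMap ∘ₗ δ.rTensor A ∘ₗ δ =
    (CoalgebraStruct.comul (R := R) (A := A)).lTensor E ∘ₗ δ)
  (hcu : (CoalgebraStruct.counit (R := R) (A := A)).lTensor E ∘ₗ δ
    = (TensorProduct.mk R E R).flip 1)

/-- the action, as endomorphisms. -/
noncomputable def endHom (B : Type u) [CommRing B] [Algebra R B] :
    (pt R B ⟶ GG R A) →* Module.End B (B ⊗[R] E) where
  toFun g := rho δ (fOf g)
  map_one' := by
    rw [fOf_one]
    exact rho_one δ hcu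
  map_mul' g h := by
    rw [fOf_mul]
    exact rho_mul δ hco _ _

/-- the `G`-module attached to a comodule. -/
noncomputable def gmodOf : GMod (GG R A) E where
  ρ B _ _ := (LinearMap.GeneralLinearGroup.generalLinearEquiv B (B ⊗[R] E)).toMonoidHom.comp
    (endHom δ hco hcu B).toHomUnits
  naturality {B B'} _ _ _ _ φ g x := by
    change Wmap φ (rho δ (fOf g) x) = rho δ (fOf (ptMap φ ≫ g)) (Wmap φ x)
    rw [fOf_ptMap]
    exact rho_comp δ (fOf g) φ x

theorem gmodOf_apply (B : Type u) [CommRing B] [Algebra R B] (g : pt R B ⟶ GG R A)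
    (y : B ⊗[R] E) : (gmodOf δ hco hcu).ρ B g y = rho δ (fOf g) y := rfl

end FromComod

theorem GMod_ext (m m' : GMod (GG R A) E)
    (h : ∀ (B : Type u) [CommRing B] [Algebra R B] (g : pt R B ⟶ GG R A) (x : E),
      m.ρ B g ((1 : B) ⊗ₜ[R] x) = m'.ρ B g ((1 : B) ⊗ₜ[R] x)) : m = m' := by
  cases m with
  | mk ρ nat =>
  cases m' with
  | mk ρ' nat' =>
  have : ρ = ρ' := by
    funext B _ _
    apply MonoidHom.ext
    intro g
    apply LinearEquiv.toLinearMap_injective
    exact ext_one_tmul _ _ (h B g)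
  subst this
  rfl

section ToComod
variable (m : GMod (GG R A) E)

/-- the universal point. -/
noncomputable def gU : pt R A ⟶ GG R A := ptOf (AlgHom.id R A)

/-- the coaction attached to a `G`-module. -/
noncomputable def deltaOf : E →ₗ[R] E ⊗[R] A :=
  (TensorProduct.comm R E A).symm.toLinearMap ∘ₗ
    ((m.ρ A gU).toLinearMap.restrictScalars R) ∘ₗ (TensorProduct.mk R A E 1)

theorem deltaOf_apply (x : E) :
    deltaOf m x = (TensorProduct.comm R E A).symm (m.ρ A gU ((1 : A) ⊗ₜ[R] x)) := rfl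

theorem comm_deltaOf (x : E) :
    TensorProduct.comm R E A (deltaOf m x) = m.ρ A gU ((1 : A) ⊗ₜ[R] x) := by
  rw [deltaOf_apply, LinearEquiv.apply_symm_apply]

theorem corr (B : Type u) [CommRing B] [Algebra R B] (g : pt R B ⟶ GG R A) (x : E) :
    m.ρ B g ((1 : B) ⊗ₜ[R] x) = theta (deltaOf m) (fOf g) x := by
  have hg : ptMap (fOf g) ≫ gU = g := by
    rw [ptMap_comp, gU, fOf_ptOf, AlgHom.comp_id, ptOf_fOf]
  have h1 := m.naturality (fOf g) gU ((1 : A) ⊗ₜ[R] x)
  rw [hg, Wmap_tmul, map_one] at h1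
  rw [← h1, ← comm_deltaOf, theta_apply]
  exact rTensor_comm (fOf g) (deltaOf m x)

theorem deltaOf_unique (δ' : E →ₗ[R] E ⊗[R] A)
    (h : ∀ (B : Type u) [CommRing B] [Algebra R B] (g : pt R B ⟶ GG R A) (x : E),
      m.ρ B g ((1 : B) ⊗ₜ[R] x) = theta δ' (fOf g) x) : δ' = deltaOf m := by
  apply LinearMap.ext
  intro x
  have h1 := h A gU x
  rw [theta_apply, gU, fOf_ptOf] at h1
  have h2 : LinearMap.lTensor E (AlgHom.id R A).toLinearMap (δ' x) = δ' x := by
    have : (AlgHom.id R A).toLinearMap = LinearMap.id := rfl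
    rw [this, LinearMap.lTensor_id]
    rfl
  rw [h2] at h1
  rw [deltaOf_apply]
  change δ' x = (TensorProduct.comm R E A).symm (m.ρ A (ptOf (AlgHom.id R A)) ((1 : A) ⊗ₜ[R] x))
  rw [h1, LinearEquiv.symm_apply_apply]

theorem mu_incl : mu (Algebra.TensorProduct.includeLeft : A →ₐ[R] A ⊗[R] A)
    (Algebra.TensorProduct.includeRight : A →ₐ[R] A ⊗[R] A) = LinearMap.id := by
  apply TensorProduct.ext'
  intro a a'
  rw [mu_tmul]
  simp

theorem deltaOf_coassoc :
    (TensorProduct.assoc R E A A).toLinearMap ∘ₗ (deltaOf m).rTensor A ∘ₗ deltaOf m =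
      (CoalgebraStruct.comul (R := R) (A := A)).lTensor E ∘ₗ deltaOf m := by
  apply LinearMap.ext
  intro x
  let i₁ : A →ₐ[R] A ⊗[R] A := Algebra.TensorProduct.includeLeft
  let i₂ : A →ₐ[R] A ⊗[R] A := Algebra.TensorProduct.includeRight
  have hmul : m.ρ (A ⊗[R] A) (ptOf i₁ * ptOf i₂) ((1 : A ⊗[R] A) ⊗ₜ[R] x)
      = m.ρ (A ⊗[R] A) (ptOf i₁) (m.ρ (A ⊗[R] A) (ptOf i₂) ((1 : A ⊗[R] A) ⊗ₜ[R] x)) := by
    rw [map_mul]
    rfl
  rw [corr, corr, fOf_mul, fOf_ptOf, fOf_ptOf, theta_mul, theta_apply] at hmul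
  have hkey := key (deltaOf m) i₁ i₂ (m.ρ (A ⊗[R] A) (ptOf i₁)).toLinearMap
    (fun y => by
      have := corr m (A ⊗[R] A) (ptOf i₁) y
      rw [fOf_ptOf] at this
      exact this) (deltaOf m x)
  have hkey' : m.ρ (A ⊗[R] A) (ptOf i₁)
      (TensorProduct.comm R E (A ⊗[R] A) (LinearMap.lTensor E i₂.toLinearMap (deltaOf m x)))
      = Psi i₁ i₂ (TensorProduct.assoc R E A A (LinearMap.rTensor A (deltaOf m) (deltaOf m x))) :=
    hkey
  rw [hkey'] at hmul
  have hinj : Function.Injective (Psi (E := E) i₁ i₂) := by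
    have : Psi (E := E) i₁ i₂ = (TensorProduct.comm R E (A ⊗[R] A)).toLinearMap := by
      rw [Psi, mu_incl, LinearMap.lTensor_id]
      rfl
    rw [this]
    exact (TensorProduct.comm R E (A ⊗[R] A)).injective
  exact (hinj hmul).symm

theorem deltaOf_counit :
    (CoalgebraStruct.counit (R := R) (A := A)).lTensor E ∘ₗ deltaOf m
      = (TensorProduct.mk R E R).flip 1 := by
  apply LinearMap.ext
  intro x
  have h1 : m.ρ R (1 : pt R R ⟶ GG R A) ((1 : R) ⊗ₜ[R] x) = (1 : R) ⊗ₜ[R] x := by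
    rw [map_one]
    rfl
  rw [corr, fOf_one, theta_apply] at h1
  have h2 : ((1 : WithConv (A →ₐ[R] R)).ofConv).toLinearMap
      = (CoalgebraStruct.counit (R := R) (A := A)) := by
    apply LinearMap.ext
    intro a
    rfl
  rw [h2] at h1
  have h3 := congrArg (TensorProduct.comm R E R).symm h1
  rw [LinearEquiv.symm_apply_apply] at h3
  rw [LinearMap.comp_apply, h3]
  rfl

end ToComod

end Groth.Agent.Lib.Helper5.GMod
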