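import Groth.Agent.Lib.Helper5.GMod.Core
import Groth.Prelude.Def_VecGrp
import Groth.Prelude.Def_HopfRep

set_option autoImplicit false
universe u
open CategoryTheory MonoidalCategory CartesianMonoidalCategory MonObj GrpObj AlgebraicGeometry VecGrp TensorProduct

namespace Groth.Agent.Lib.Helper5.GMod

section Points
variable (R : Type u) [CommRing R] (A : Type u) [CommRing A] [HopfAlgebra R A]

/-- the affine group scheme. -/
noncomputable abbrev GG : Over (Spec (CommRingCat.of R)) :=
  (Spec (CommRingCat.of A)).asOver (Spec (CommRingCat.of R))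

variable {R A} {B : Type u} [CommRing B] [Algebra R B]

/-- the algebra map of a point. -/
noncomputable def fOf (g : pt R B ⟶ GG R A) : A →ₐ[R] B := (Spec.mapMulEquiv.symm g).ofConv

/-- the point of an algebra map. -/
noncomputable def ptOf (f : A →ₐ[R] B) : pt R B ⟶ GG R A := Spec.mapMulEquiv (WithConv.toConv f)

theorem fOf_ptOf (f : A →ₐ[R] B) : fOf (ptOf f) = f := by
  simp [fOf, ptOf]

theorem ptOf_fOf (g : pt R B ⟶ GG R A) : ptOf (fOf g) = g := by
  simp [fOf, ptOf]

theorem fOf_mul (g h : pt R B ⟶ GG R A) :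
    fOf (g * h) = (WithConv.toConv (fOf g) * WithConv.toConv (fOf h)).ofConv :=
  congrArg WithConv.ofConv (map_mul (Spec.mapMulEquiv (R := R) (S := A) (T := B)).symm g h)

theorem fOf_one : fOf (1 : pt R B ⟶ GG R A) = (1 : WithConv (A →ₐ[R] B)).ofConv :=
  congrArg WithConv.ofConv (map_one (Spec.mapMulEquiv (R := R) (S := A) (T := B)).symm)

theorem ptOf_left (f : A →ₐ[R] B) :
    (ptOf f).left = Spec.map (CommRingCat.ofHom f.toRingHom) := rfl

theorem fOf_ptMap {B' : Type u} [CommRing B'] [Algebra R B'] (φ : B →ₐ[R] B')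
    (g : pt R B ⟶ GG R A) : fOf (ptMap φ ≫ g) = φ.comp (fOf g) := by
  have h : ptMap φ ≫ g = ptOf (φ.comp (fOf g)) := by
    apply Over.OverMorphism.ext
    rw [Over.comp_left, ptMap_left, ptOf_left]
    conv_lhs => rw [← ptOf_fOf g, ptOf_left]
    exact (Spec.map_comp (CommRingCat.ofHom (fOf g).toRingHom) (CommRingCat.ofHom φ.toRingHom)).symm
  rw [h, fOf_ptOf]

end Points

end Groth.Agent.Lib.Helper5.GMod
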